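import Mathlib

/-!
# Local sub-presheaves of a sheaf of modules on a site (helper5)

A family of submodules of the modules of sections of a sheaf of modules `M` which is stable under
restriction and local defines a subobject of `M`.  This is the general-site version of helper1's
`SubSh` library.
-/

set_option autoImplicit false
universe u
open CategoryTheory CategoryTheory.Limits Opposite

namespace Groth.Agent.Lib.Helper5.SiteGen

variable {C : Type u} [Category.{u} C] {J : GrothendieckTopology C} {R : Sheaf J RingCat.{u}}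

section Res

variable (M : SheafOfModules.{u} R)

/-- restriction of sections, as an additive map -/
noncomputable def res {Y Z : C} (g : Z ⟶ Y) : M.val.obj (op Y) →+ M.val.obj (op Z) :=
  (M.val.presheaf.map g.op).hom

lemma res_eq {Y Z : C} (g : Z ⟶ Y) (t : M.val.obj (op Y)) : res M g t = M.val.map g.op t := rfl

lemma res_comp {Y Z W : C} (g : Z ⟶ Y) (h : W ⟶ Z) (t : M.val.obj (op Y)) :
    res M h (res M g t) = res M (h ≫ g) t := by
  change ((M.val.presheaf.map g.op) ≫ (M.val.presheaf.map h.op)).hom t = _
  rw [← Functor.map_comp]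
  rfl

lemma res_id {Y : C} (t : M.val.obj (op Y)) : res M (𝟙 Y) t = t := by
  change (M.val.presheaf.map (𝟙 Y).op).hom t = t
  rw [op_id, CategoryTheory.Functor.map_id]
  rfl

lemma res_smul {Y Z : C} (g : Z ⟶ Y) (r : R.obj.obj (op Y)) (t : M.val.obj (op Y)) :
    res M g (r • t) = (R.obj.map g.op r) • res M g t :=
  PresheafOfModules.map_smul M.val g.op r t

end Res

variable (M : SheafOfModules.{u} R)

/-- a sub-presheaf of modules of `M` which is local for the topology -/
structure LocalSub where
  sub : PresheafOfModules.Submodule M.val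
  local_mem : ∀ (Y : C) (t : M.val.obj (op Y)) (S : Sieve Y), S ∈ J Y →
    (∀ ⦃Z : C⦄ (g : Z ⟶ Y), S g → res M g t ∈ sub.obj (op Z)) → t ∈ sub.obj (op Y)

variable {M}

/-- the localization of a sub-presheaf of modules -/
noncomputable def loc (P : PresheafOfModules.Submodule M.val) : LocalSub M where
  sub :=
    { obj := fun Y =>
        { carrier := {t | ∃ S : Sieve Y.unop, S ∈ J Y.unop ∧
            ∀ ⦃Z : C⦄ (g : Z ⟶ Y.unop), S g → res M g t ∈ P.obj (op Z)}
          add_mem' := by
            rintro a b ⟨S₁, hS₁, h₁⟩ ⟨S₂, hS₂, h₂⟩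
            refine ⟨S₁ ⊓ S₂, J.intersection_covering hS₁ hS₂, ?_⟩
            intro Z g hg
            rw [map_add]
            exact (P.obj (op Z)).add_mem (h₁ g hg.1) (h₂ g hg.2)
          zero_mem' := by
            refine ⟨⊤, J.top_mem _, ?_⟩
            intro Z g _
            rw [map_zero]
            exact (P.obj (op Z)).zero_mem
          smul_mem' := by
            rintro r a ⟨S₁, hS₁, h₁⟩
            refine ⟨S₁, hS₁, ?_⟩
            intro Z g hg
            rw [res_smul]
            exact (P.obj (op Z)).smul_mem _ (h₁ g hg) }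
      map := by
        intro Y Y' f t ht
        obtain ⟨S, hS, h⟩ := ht
        refine ⟨S.pullback f.unop, J.pullback_stable f.unop hS, ?_⟩
        intro Z g hg
        change res M g (res M f.unop t) ∈ _
        rw [res_comp]
        exact h _ hg }
  local_mem := by
    intro Y t T hT h
    choose S hS hS' using h
    refine ⟨Sieve.bind T.arrows (fun Z g hg => S g hg), J.bind_covering hT (fun Z g hg => hS g hg), ?_⟩
    rintro Z g ⟨W, k, l, hl, hk, rfl⟩
    rw [← res_comp]
    exact hS' l hl k hk

lemma le_loc (P : PresheafOfModules.Submodule M.val) {Y : C} {t : M.val.obj (op Y)}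
    (ht : t ∈ P.obj (op Y)) : t ∈ (loc P).sub.obj (op Y) := by
  refine ⟨⊤, J.top_mem _, ?_⟩
  intro Z g _
  exact P.map g.op ht

lemma mem_loc_iff (P : PresheafOfModules.Submodule M.val) {Y : C} (t : M.val.obj (op Y)) :
    t ∈ (loc P).sub.obj (op Y) ↔ ∃ S : Sieve Y, S ∈ J Y ∧
      ∀ ⦃Z : C⦄ (g : Z ⟶ Y), S g → res M g t ∈ P.obj (op Z) := Iff.rfl

namespace LocalSub

variable (N : LocalSub M)

/-- the underlying presheaf of modules -/
noncomputable def pre : PresheafOfModules R.obj := N.sub.toPresheafOfModules

lemma pre_map_val {Y Z : C} (g : Z ⟶ Y) (t : N.sub.obj (op Y)) :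
    ((N.pre.presheaf.map g.op).hom t : N.sub.obj (op Z)).1 = res M g t.1 := rfl

theorem isSheaf : Presheaf.IsSheaf J N.pre.presheaf := by
  rw [Presheaf.isSheaf_iff_isSheaf_forget J _ (forget AddCommGrpCat), isSheaf_iff_isSheaf_of_type]
  have hM : Presieve.IsSheaf J (M.val.presheaf ⋙ forget AddCommGrpCat) := by
    rw [← isSheaf_iff_isSheaf_of_type, ← Presheaf.isSheaf_iff_isSheaf_forget]
    exact M.isSheaf
  intro Y S hS x hx
  let x' : Presieve.FamilyOfElements (M.val.presheaf ⋙ forget AddCommGrpCat) S.arrows :=
    fun Z g hg => (show N.sub.obj (op Z) from x g hg).1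
  have hx' : x'.Compatible := by
    intro Y₁ Y₂ Z g₁ g₂ f₁ f₂ h₁ h₂ e
    have := hx g₁ g₂ h₁ h₂ e
    exact congrArg (fun z : N.sub.obj (op Z) => z.1) this
  obtain ⟨t, ht, htu⟩ := hM S hS x' hx'
  have hmem : (show M.val.obj (op Y) from t) ∈ N.sub.obj (op Y) := by
    refine N.local_mem Y t S hS ?_
    intro Z g hg
    have := ht g hg
    change res M g t = _ at this
    rw [this]
    exact (show N.sub.obj (op Z) from x g hg).2
  refine ⟨(⟨t, hmem⟩ : N.sub.obj (op Y)), ?_, ?_⟩
  · intro Z g hg
    apply Subtype.ext (a1 := (show N.sub.obj (op Z) from _)) (a2 := (show N.sub.obj (op Z) from _))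
    exact ht g hg
  · intro t' ht'
    apply Subtype.ext (a1 := (show N.sub.obj (op Y) from t')) (a2 := ⟨t, hmem⟩)
    apply htu
    intro Z g hg
    have := ht' g hg
    exact congrArg (fun z : N.sub.obj (op Z) => z.1) this

/-- the subsheaf of modules -/
noncomputable def obj : SheafOfModules.{u} R := ⟨N.pre, N.isSheaf⟩

/-- the inclusion -/
noncomputable def ι : N.obj ⟶ M := ⟨N.sub.ι⟩

instance : Mono N.ι := by
  haveI : Mono ((SheafOfModules.forget R).map N.ι) := inferInstanceAs (Mono N.sub.ι)
  exact (SheafOfModules.forget R).mono_of_mono_map this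

lemma ι_app_val {Y : C} (t : N.obj.val.obj (op Y)) :
    N.ι.val.app (op Y) t = (show N.sub.obj (op Y) from t).1 := rfl

/-- if the inclusion is an isomorphism, then the family is everything -/
lemma mem_of_isIso [IsIso N.ι] {Y : C} (t : M.val.obj (op Y)) : t ∈ N.sub.obj (op Y) := by
  haveI : IsIso ((SheafOfModules.forget R).map N.ι) := inferInstance
  haveI : IsIso ((PresheafOfModules.evaluation R.obj (op Y)).map
      ((SheafOfModules.forget R).map N.ι)) := inferInstance
  have hb := (ConcreteCategory.isIso_iff_bijective ((PresheafOfModules.evaluation R.obj (op Y)).map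
      ((SheafOfModules.forget R).map N.ι))).1 inferInstance
  obtain ⟨s, hs⟩ := hb.2 t
  rw [← hs]
  exact (show N.sub.obj (op Y) from s).2

/-- a section of `M` with values in the family, as a section of the subsheaf -/
noncomputable def liftSection (s : M.sections) (h : ∀ Y : C, s.1 (op Y) ∈ N.sub.obj (op Y)) :
    N.obj.sections :=
  PresheafOfModules.sectionsMk (M := N.pre)
    (fun Y => (⟨s.1 Y, h Y.unop⟩ : N.sub.obj Y))
    (by
      intro Y Z f
      apply Subtype.ext (a1 := (show N.sub.obj Z from _)) (a2 := (show N.sub.obj Z from _))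
      exact s.2 f)

lemma sectionsMap_liftSection (s : M.sections) (h : ∀ Y : C, s.1 (op Y) ∈ N.sub.obj (op Y)) :
    SheafOfModules.sectionsMap N.ι (N.liftSection s h) = s := by
  apply PresheafOfModules.sections_ext
  intro Y
  rfl

end LocalSub

end Groth.Agent.Lib.Helper5.SiteGen
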