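import Mathlib
import Groth.Agent.Lib.Helper5.SiteGen.Sub

/-!
# Epimorphisms from free sheaves of modules on a site (helper5)

A family of sections of a sheaf of modules `M` on a site generates `M` (the associated morphism
from the free sheaf of modules is an epimorphism) if and only if every section of `M` is locally
a linear combination of the family.
-/

set_option autoImplicit false
universe u
open CategoryTheory CategoryTheory.Limits Opposite

namespace Groth.Agent.Lib.Helper5.SiteGen

variable {C : Type u} [Category.{u} C] {J : GrothendieckTopology C} {R : Sheaf J RingCat.{u}}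
  [HasSheafify J AddCommGrpCat.{u}] [J.WEqualsLocallyBijective AddCommGrpCat.{u}]

variable {M : SheafOfModules.{u} R} {I : Type u} (s : I → M.sections)

/-- the span of a family of sections -/
noncomputable def spanSub : PresheafOfModules.Submodule M.val where
  obj Y := Submodule.span (R.obj.obj Y) (Set.range fun i => (s i).1 Y)
  map {Y Z} f := by
    rw [Submodule.span_le]
    rintro _ ⟨i, rfl⟩
    apply Submodule.subset_span
    exact ⟨i, ((s i).2 f).symm⟩

/-- if the family generates, every section is locally a combination of the family -/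
theorem mem_loc_of_epi [Epi (M.freeHomEquiv.symm s)] {Y : C} (t : M.val.obj (op Y)) :
    t ∈ (loc (spanSub s)).sub.obj (op Y) := by
  let G := loc (spanSub s)
  have hmem : ∀ i (Y : C), (s i).1 (op Y) ∈ G.sub.obj (op Y) := fun i Y =>
    le_loc (spanSub s) (Submodule.subset_span ⟨i, rfl⟩)
  let s' : I → G.obj.sections := fun i => G.liftSection (s i) (hmem i)
  have hq : G.obj.freeHomEquiv.symm s' ≫ G.ι = M.freeHomEquiv.symm s := by
    rw [SheafOfModules.freeHomEquiv_symm_comp]
    congr 1
  haveI : Epi (G.obj.freeHomEquiv.symm s' ≫ G.ι) := by rw [hq]; infer_instance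
  haveI : Epi G.ι := epi_of_epi (G.obj.freeHomEquiv.symm s') G.ι
  haveI : IsIso G.ι := isIso_of_mono_of_epi _
  exact G.mem_of_isIso t

/-- conversely, a locally generating family gives an epimorphism -/
theorem epi_of_mem_loc
    (h : ∀ (Y : C) (t : M.val.obj (op Y)), t ∈ (loc (spanSub s)).sub.obj (op Y)) :
    Epi (M.freeHomEquiv.symm s) := by
  apply Preadditive.epi_of_cancel_zero
  intro P g hg
  have h0 : ∀ i (Y : C), g.val.app (op Y) ((s i).1 (op Y)) = 0 := by
    intro i Y
    have h1 : P.freeHomEquiv (M.freeHomEquiv.symm s ≫ g) i =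
        SheafOfModules.sectionsMap g (s i) := by
      rw [SheafOfModules.freeHomEquiv_comp_apply, Equiv.apply_symm_apply]
    rw [hg] at h1
    have h2 := congrArg (fun z : P.sections => z.1 (op Y)) h1
    exact h2.symm.trans rfl
  have hP : Presieve.IsSheaf J (P.val.presheaf ⋙ forget AddCommGrpCat) := by
    rw [← isSheaf_iff_isSheaf_of_type, ← Presheaf.isSheaf_iff_isSheaf_forget]
    exact P.isSheaf
  apply SheafOfModules.hom_ext
  apply PresheafOfModules.hom_ext
  intro Y
  ext t
  obtain ⟨S, hS, hS'⟩ := h Y.unop t
  change g.val.app Y t = 0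
  refine (hP S hS).isSeparatedFor.ext (t₁ := g.val.app Y t) (t₂ := (0 : P.val.obj Y)) ?_
  intro Z k hk
  change res P k (g.val.app Y t) = res P k 0
  rw [map_zero]
  have hnat : res P k (g.val.app Y t) = g.val.app (op Z) (res M k t) :=
    (PresheafOfModules.naturality_apply g.val k.op t).symm
  rw [hnat]
  have hm := hS' k hk
  generalize res M k t = t' at hm
  induction hm using Submodule.span_induction with
  | mem x hx =>
    obtain ⟨i, rfl⟩ := hx
    exact h0 i Z
  | zero => exact map_zero _
  | add x y _ _ hx hy => rw [map_add, hx, hy, add_zero]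
  | smul r x _ hx => rw [map_smul, hx, smul_zero]

theorem epi_iff_mem_loc :
    Epi (M.freeHomEquiv.symm s) ↔
      ∀ (Y : C) (t : M.val.obj (op Y)), t ∈ (loc (spanSub s)).sub.obj (op Y) :=
  ⟨fun _ Y t => mem_loc_of_epi s t, epi_of_mem_loc s⟩

end Groth.Agent.Lib.Helper5.SiteGen
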