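import Mathlib
import Groth.Agent.Lib.Helper5.SiteGen.Epi

/-!
# Sheaves of modules of finite type on a topological space, concretely (helper5)
-/

set_option autoImplicit false
universe u
open CategoryTheory CategoryTheory.Limits Opposite TopologicalSpace

namespace Groth.Agent.Lib.Helper5.SiteGen

variable {T : TopCat.{u}} {R : TopCat.Sheaf RingCat.{u} T} (M : SheafOfModules.{u} R)

/-- concrete local generation by finitely many sections -/
def LocSpan : Prop :=
  ∀ x : T, ∃ (U : Opens T) (_ : x ∈ U) (n : ℕ) (σ : Fin n → M.val.obj (op U)),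
    ∀ (V : Opens T) (hV : V ≤ U) (t : M.val.obj (op V)) (y : T), y ∈ V →
      ∃ (W : Opens T) (hW : W ≤ V), y ∈ W ∧
        res M (homOfLE hW) t ∈ Submodule.span (R.obj.obj (op W))
          (Set.range fun j => res M (homOfLE (hW.trans hV)) (σ j))

variable {M}

theorem locSpan_of_isFiniteType (hM : SheafOfModules.IsFiniteType.{u} M) : LocSpan M := by
  obtain ⟨σ, hσ⟩ := hM.exists_localGeneratorsData
  intro x
  have cov := σ.coversTop
  rw [Opens.coversTop_iff] at cov
  obtain ⟨i, hxi⟩ : ∃ i, x ∈ σ.X i := by
    have := cov.iSup_eq_top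
    have hx : x ∈ (⨆ i, σ.X i : Opens T) := by rw [this]; trivial
    simpa [Opens.mem_iSup] using hx
  obtain ⟨U, hU⟩ : ∃ U : Opens T, U = σ.X i := ⟨_, rfl⟩
  let G := σ.generators i
  haveI : Finite G.I := (hσ.isFiniteType i).finite
  obtain ⟨n, ⟨e⟩⟩ := Finite.exists_equiv_fin G.I
  refine ⟨σ.X i, hxi, n, fun j => (G.s (e.symm j)).1 (op (Over.mk (𝟙 (σ.X i)))), ?_⟩
  intro V hV t y hy
  haveI := G.epi
  obtain ⟨S, hS, hS'⟩ := mem_loc_of_epi (M := M.over (σ.X i)) G.s
    (Y := Over.mk (homOfLE hV)) t
  rw [GrothendieckTopology.mem_over_iff] at hS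
  obtain ⟨W, f, hf, hyW⟩ := hS y hy
  rw [Sieve.overEquiv_iff] at hf
  have hm := hS' _ hf
  refine ⟨W, leOfHom f, hyW, ?_⟩
  have hb : ∀ k : G.I, (G.s k).1 (op (Over.mk (f ≫ homOfLE hV))) =
      res M (f ≫ homOfLE hV) ((G.s k).1 (op (Over.mk (𝟙 (σ.X i))))) := by
    intro k
    have := PresheafOfModules.sections_property (G.s k)
      (Over.homMk (f ≫ homOfLE hV) : Over.mk (f ≫ homOfLE hV) ⟶ Over.mk (𝟙 (σ.X i))).op
    exact this.symm
  have key : ∀ z : (M.over (σ.X i)).val.obj (op (Over.mk (f ≫ homOfLE hV))),
      z ∈ (spanSub G.s).obj (op (Over.mk (f ≫ homOfLE hV))) →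
      (show M.val.obj (op W) from z) ∈ Submodule.span (R.obj.obj (op W))
        (Set.range fun j => res M (homOfLE ((leOfHom f).trans hV))
          ((G.s (e.symm j)).1 (op (Over.mk (𝟙 (σ.X i)))))) := by
    intro z hz
    induction hz using Submodule.span_induction with
    | mem z hz =>
      obtain ⟨k, rfl⟩ := hz
      apply Submodule.subset_span
      refine ⟨e k, ?_⟩
      simp only [Equiv.symm_apply_apply]
      exact (hb k).symm
    | zero => exact Submodule.zero_mem _
    | add a b _ _ ha hb => exact Submodule.add_mem _ ha hb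
    | smul r a _ ha => exact Submodule.smul_mem _ r ha
  exact key _ hm

/-- the section of `M.over U` defined by an element of `M(U)` -/
noncomputable def overSection (U : Opens T) (τ : M.val.obj (op U)) : (M.over U).sections :=
  PresheafOfModules.sectionsMk (M := (M.over U).val) (fun Y => res M Y.unop.hom τ)
    (by
      intro Y Z g
      change res M g.unop.left (res M Y.unop.hom τ) = res M Z.unop.hom τ
      rw [res_comp]
      congr 1)

theorem isFiniteType_of_locSpan (h : LocSpan M) : SheafOfModules.IsFiniteType.{u} M := by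
  choose U hxU n σ hσ using h
  have hepi : ∀ x : T, Epi ((M.over (U x)).freeHomEquiv.symm
      (fun j : ULift.{u} (Fin (n x)) => overSection (U x) (σ x j.down))) := by
    intro x
    apply epi_of_mem_loc
    intro Y t
    let s := fun j : ULift.{u} (Fin (n x)) => overSection (U x) (σ x j.down)
    -- the sieve of arrows over which `t` is in the span
    let S : Sieve Y :=
      { arrows := fun Z g => res (M.over (U x)) g t ∈ (spanSub s).obj (op Z)
        downward_closed := by
          intro Z W g hg k
          change res (M.over (U x)) (k ≫ g) t ∈ _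
          rw [← res_comp]
          exact (spanSub s).map k.op hg }
    refine ⟨S, ?_, fun Z g hg => hg⟩
    rw [GrothendieckTopology.mem_over_iff]
    intro y hy
    obtain ⟨W, hW, hyW, hm⟩ := hσ x Y.left (leOfHom Y.hom) t y hy
    refine ⟨W, homOfLE hW, ?_, hyW⟩
    rw [Sieve.overEquiv_iff]
    change res (M.over (U x)) (Over.homMk (homOfLE hW)) t ∈
      (spanSub s).obj (op (Over.mk (homOfLE hW ≫ Y.hom)))
    have key : ∀ z : M.val.obj (op W),
        z ∈ Submodule.span (R.obj.obj (op W))
          (Set.range fun j => res M (homOfLE (hW.trans (leOfHom Y.hom))) (σ x j)) →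
        (show (M.over (U x)).val.obj (op (Over.mk (homOfLE hW ≫ Y.hom))) from z) ∈
          (spanSub s).obj (op (Over.mk (homOfLE hW ≫ Y.hom))) := by
      intro z hz
      induction hz using Submodule.span_induction with
      | mem z hz =>
        obtain ⟨j, rfl⟩ := hz
        apply Submodule.subset_span
        exact ⟨ULift.up j, rfl⟩
      | zero => exact Submodule.zero_mem _
      | add a b _ _ ha hb => exact Submodule.add_mem _ ha hb
      | smul r a _ ha => exact Submodule.smul_mem _ r ha
    exact key _ hm
  have hcov : (Opens.grothendieckTopology T).CoversTop U := by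
    rw [Opens.coversTop_iff]
    exact .mk (by
      rw [eq_top_iff]
      intro x _
      exact Opens.mem_iSup.mpr ⟨x, hxU x⟩)
  let D : SheafOfModules.LocalGeneratorsData.{u} M :=
    { I := ↥T
      X := U
      coversTop := hcov
      generators := fun x =>
        { I := ULift.{u} (Fin (n x))
          s := fun j => overSection (U x) (σ x j.down)
          epi := hepi x } }
  have hD : D.IsFiniteType := by
    constructor
    intro x
    constructor
    change Finite (ULift.{u} (Fin (n x)))
    infer_instance
  constructor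
  exact ⟨D, hD⟩

theorem isFiniteType_iff_locSpan : SheafOfModules.IsFiniteType.{u} M ↔ LocSpan M :=
  ⟨locSpan_of_isFiniteType, isFiniteType_of_locSpan⟩

end Groth.Agent.Lib.Helper5.SiteGen
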